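import Groth.Agent.CurveCompl.Over
import Groth.Agent.CurveNorm.Generic
import Groth.Agent.BiratNormal.Scheme
import Groth.Agent.GeomProp.SmoothPoint
import Groth.Agent.SmLocalST.SmoothField
import Groth.Agent.S4454
import Groth.Agent.RatExt.Basic
import Groth.Agent.RegLoc.Normal
import Mathlib

/-!
Smooth projective completion of a smooth curve
-/

set_option autoImplicit false
set_option linter.style.haveILetI false
set_option backward.isDefEq.respectTransparency false
universe u

open CategoryTheory CategoryTheory.Limits AlgebraicGeometry IsLocalRing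

namespace Groth.Agent.SmoothCompl

theorem ringKrullDim_stalk_le {X : Scheme.{u}} (x : X) :
    ringKrullDim (X.presheaf.stalk x) ≤ topologicalKrullDim X := by
  rw [← PrimeSpectrum.topologicalKrullDim_eq_ringKrullDim]
  exact (X.fromSpecStalk x).isEmbedding.isInducing.topologicalKrullDim_le

theorem isRegularLocalRing_of_dim_le_one (R : Type u) [CommRing R] [IsLocalRing R] [IsDomain R]
    [IsNoetherianRing R] [IsIntegrallyClosed R] (hd : ringKrullDim R ≤ 1) : IsRegularLocalRing R := by
  haveI : ValuationRing R := RatExt.valuationRing_of_dim_le_one hd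
  haveI : IsPrincipalIdealRing R := ((IsBezout.TFAE (R := R)).out 0 1 rfl rfl).1 inferInstance
  infer_instance

theorem ringKrullDim_stalk_eq_one {k : Type u} [Field k] {X : Scheme.{u}} [IsIntegral X]
    (f : X ⟶ Spec (CommRingCat.of k)) [LocallyOfFiniteType f] (hdim : topologicalKrullDim X = 1)
    (x : X) (hx : IsClosed ({x} : Set X)) : ringKrullDim (X.presheaf.stalk x) = 1 := by
  refine le_antisymm ((ringKrullDim_stalk_le x).trans hdim.le) ?_
  have hne : x ≠ genericPoint X := by
    rintro rfl
    have hu : ({genericPoint X} : Set X) = Set.univ := by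
      rw [← hx.closure_eq, genericPoint_closure]
    haveI : Subsingleton X := ⟨fun a b => by
      rw [Set.eq_univ_iff_forall.1 hu a, Set.eq_univ_iff_forall.1 hu b]⟩
    have : topologicalKrullDim X ≤ 0 := by
      simp only [topologicalKrullDim]
      haveI : Subsingleton (TopologicalSpace.IrreducibleCloseds X) := ⟨fun a b => by
        apply TopologicalSpace.IrreducibleCloseds.ext
        rw [(Subsingleton.eq_univ_of_nonempty a.isIrreducible.1), (Subsingleton.eq_univ_of_nonempty b.isIrreducible.1)]⟩
      exact Order.krullDim_nonpos_of_subsingleton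
    rw [hdim] at this
    exact absurd this (by decide)
  obtain ⟨Q, hQ⟩ : genericPoint X ∈ Set.range (X.fromSpecStalk x) := by
    rw [Scheme.range_fromSpecStalk]; exact (genericPoint_spec X).specializes trivial
  refine Order.one_le_krullDim_iff.2 ⟨Q, IsLocalRing.closedPoint _, ?_⟩
  refine lt_of_le_of_ne (IsLocalRing.le_maximalIdeal Q.2.ne_top) fun e => hne ?_
  rw [e, Scheme.fromSpecStalk_closedPoint] at hQ
  exact hQ

variable {k : Type u} [Field k] [PerfectField k]

/-- A smooth curve over a perfect field has a smooth projective completion. -/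
theorem exists_completion {X : Scheme.{u}} [IsIntegral X] (s : X ⟶ Spec (CommRingCat.of k)) [IsSeparated s]
    [LocallyOfFiniteType s] [QuasiCompact s] [Smooth s] (hdim : topologicalKrullDim X = 1) :
    ∃ (Y : Scheme.{u}) (q : Y ⟶ Spec (CommRingCat.of k)) (j : X ⟶ Y), IsOpenImmersion j ∧ j ≫ q = s ∧
      IsIntegral Y ∧ Smooth q ∧ topologicalKrullDim Y = 1 ∧
      ∃ (n : ℕ) (i : Y ⟶ CohB1.ProjSpace n k), IsClosedImmersion i ∧ i ≫ CohB1.ProjSpace.toSpec n k = q := by
  obtain ⟨Z, q, j, -, -, -, hq, hj, hjr, hjd, -, hjq, -, hZ, -, -⟩ :=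
    CurveCompl.exists_completion_over s hdim.le (𝟙 (Spec (CommRingCat.of k))) s (Category.comp_id s)
  haveI := hq; haveI := hj
  letI : Z.Over (Spec (CommRingCat.of k)) := ⟨q⟩
  haveI : IsNoetherian Z := LocImmBlow.isNoetherian_of_ft q
  haveI : QuasiCompact j := inferInstance
  haveI : IsReduced Z := IsSchemeTheoreticallyDominant.isReduced j
  obtain ⟨x₀⟩ := (inferInstance : Nonempty X)
  haveI : PreirreducibleSpace Z := by
    have h1 := ((IsIrreducible.closure ((IrreducibleSpace.isIrreducible_univ (X : Type u)).image j.base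
      j.base.hom.continuous.continuousOn)))
    rw [Set.image_univ, hjr.closure_range] at h1
    exact ⟨h1.2⟩
  haveI : IrreducibleSpace Z := { toNonempty := ⟨j x₀⟩ }
  haveI : IsIntegral Z := isIntegral_of_irreducibleSpace_of_isReduced Z
  have hZ1 : topologicalKrullDim Z = 1 :=
    le_antisymm hZ (hdim ▸ j.isOpenEmbedding.isInducing.topologicalKrullDim_le)
  -- normalize the completion
  let φ : Z.functionField →+* Z.functionField := RingHom.id _
  let g : Spec (CommRingCat.of Z.functionField) ⟶ Z :=
    Spec.map (CommRingCat.ofHom φ) ≫ Z.fromSpecStalk (genericPoint Z)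
  have hφ : φ.Finite := RingHom.Finite.id _
  haveI : LocallyOfFiniteType (Z ↘ Spec (CommRingCat.of k)) := inferInstanceAs (LocallyOfFiniteType q)
  haveI : QuasiCompact (Z ↘ Spec (CommRingCat.of k)) := inferInstanceAs (QuasiCompact q)
  haveI : IsSeparated (Z ↘ Spec (CommRingCat.of k)) := inferInstanceAs (IsSeparated q)
  haveI : IsAffineHom (g ≫ q) := inferInstance
  haveI : IsAffineHom g := IsAffineHom.of_comp g q
  obtain ⟨hfin, hnorm, -⟩ := S4454.result k Z (ringKrullDim_stalk_eq_one q hZ1) _ φ hφ g rfl
  haveI := hfin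
  let W := g.normalization
  let π : W ⟶ Z := g.fromNormalization
  -- birationality
  obtain ⟨U, hU, hxU, -⟩ := exists_isAffineOpen_mem_and_subset (U := (⊤ : Z.Opens)) (x := genericPoint Z) trivial
  haveI : Nonempty U := ⟨⟨_, hxU⟩⟩
  obtain ⟨θ, hθ⟩ := CurveNorm.exists_functionField_equiv φ g hφ rfl hU
  have hπη : π (genericPoint W) = genericPoint Z := by
    by_contra hne
    have hsub : Set.range g ⊆ closure {π (genericPoint W)} := by
      rintro _ ⟨y, rfl⟩
      have h1 : π (g.toNormalization y) = g y := congr($(g.toNormalization_fromNormalization) y)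
      rw [← h1]
      exact specializes_iff_mem_closure.1 (((genericPoint_spec W).specializes trivial).map π.continuous)
    have hη : genericPoint Z ∈ Set.range g := ⟨IsLocalRing.closedPoint _, by
      refine (congrArg (Z.fromSpecStalk (genericPoint Z))
        (Subsingleton.elim (α := PrimeSpectrum Z.functionField) _ (IsLocalRing.closedPoint _))).trans ?_
      exact Scheme.fromSpecStalk_closedPoint⟩
    exact hne (((genericPoint_spec Z).specializes trivial).antisymm
      (specializes_iff_mem_closure.2 (hsub hη))).symm.eq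
  have hbir : IsIso (π.stalkMap (genericPoint W)) := by
    let c : Z.functionField ⟶ Z.presheaf.stalk (π (genericPoint W)) :=
      (Z.presheaf.stalkCongr (.of_eq hπη.symm)).hom
    have hc : ∀ a, θ (π.stalkMap (genericPoint W) (c (Z.germToFunctionField U a))) = Z.germToFunctionField U a := by
      intro a
      have hmem : genericPoint W ∈ π ⁻¹ᵁ U := by
        show π (genericPoint W) ∈ U
        rw [hπη]; exact hxU
      have h1 : c (Z.germToFunctionField U a) = Z.presheaf.germ U _ hmem a := by
        simp only [c, TopCat.Presheaf.stalkCongr_hom, Scheme.germToFunctionField]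
        exact TopCat.Presheaf.germ_stalkSpecializes_apply _ _ _ _
      rw [h1, Scheme.Hom.germ_stalkMap_apply]
      exact hθ U hmem a
    have hid : θ.toRingHom.comp ((π.stalkMap (genericPoint W)).hom.comp c.hom) = RingHom.id _ := by
      haveI := functionField_isFractionRing_of_isAffineOpen Z U hU
      exact IsLocalization.ringHom_ext (nonZeroDivisors Γ(Z, U)) (RingHom.ext hc)
    haveI : IsIso (c ≫ π.stalkMap (genericPoint W)) := (ConcreteCategory.isIso_iff_bijective _).2 (by
      have hb : ∀ a, θ ((c ≫ π.stalkMap (genericPoint W)) a) = a := fun a => congrArg (fun f => f a) hid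
      refine ⟨fun a b h => ?_, fun b => ⟨θ b, θ.injective (hb _)⟩⟩
      rw [← hb a, ← hb b, h])
    exact IsIso.of_isIso_comp_left c _
  -- the curve is unchanged
  let D : Z.Opens := j.opensRange
  haveI hiso : IsIso (π ∣_ D) := by
    have hloc : ∀ z ∈ D, ∃ V : Z.Opens, z ∈ V ∧ IsIso (π ∣_ V) := by
      intro z hz
      obtain ⟨w, hw⟩ : z ∈ Set.range π :=
        π.isClosedMap.isClosed_range.closure_subset_iff.2 (Set.singleton_subset_iff.2 ⟨_, hπη⟩)
          (specializes_iff_mem_closure.1 ((genericPoint_spec Z).specializes trivial))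
      obtain ⟨x, rfl⟩ := hz
      have hn : IsIntegrallyClosed (Z.presheaf.stalk (π w)) := by
        rw [hw]
        haveI := SmLocalST.isRegularLocalRing_stalk_of_smooth_field s x
        haveI : IsIntegrallyClosed (X.presheaf.stalk x) := RegLoc.isIntegrallyClosed
        exact IsIntegrallyClosed.of_equiv (asIso (j.stalkMap x)).commRingCatIsoToRingEquiv.symm
      obtain ⟨D', V', e, hD', hV', hres⟩ := BiratNormal.exists_nhd_isIso π hbir w hn (π.quasiFiniteAt w)
      haveI := hres
      exact ⟨D', hw ▸ hD', BiratNormal.isIso_morphismRestrict_of_nhd π D' V' e ⟨w, hV'⟩⟩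
    choose V hV hVi using fun z : D => hloc z z.2
    have hP := @IsZariskiLocalAtTarget.of_iSup_eq_top (MorphismProperty.isomorphisms Scheme) _ _ _ (π ∣_ D) _
      (fun z : D => D.ι ⁻¹ᵁ V z) ?_ ?_
    · exact hP
    · exact TopologicalSpace.Opens.ext (Set.eq_univ_of_forall fun z =>
        TopologicalSpace.Opens.mem_iSup.2 ⟨z, hV z⟩)
    intro z
    refine ((MorphismProperty.isomorphisms Scheme).arrow_mk_iso_iff (morphismRestrictRestrict π D _)).2 ?_
    rw [Scheme.Hom.image_preimage_eq_opensRange_inf, Scheme.Opens.opensRange_ι]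
    haveI := hVi z
    have h2 : (MorphismProperty.isomorphisms Scheme) (π ∣_ V z ∣_ ((V z).ι ⁻¹ᵁ D)) :=
      IsZariskiLocalAtTarget.restrict (P := MorphismProperty.isomorphisms Scheme) (hVi z) _
    rw [(MorphismProperty.isomorphisms Scheme).arrow_mk_iso_iff (morphismRestrictRestrict π (V z) _),
      Scheme.Hom.image_preimage_eq_opensRange_inf, Scheme.Opens.opensRange_ι] at h2
    rwa [inf_comm]
  let j' : X ⟶ W := (Scheme.Hom.isoOpensRange j).hom ≫ inv (π ∣_ D) ≫ (π ⁻¹ᵁ D).ι
  have hj' : j' ≫ π = j := by
    simp only [j', Category.assoc]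
    rw [← morphismRestrict_ι, IsIso.inv_hom_id_assoc]
    exact Scheme.Hom.isoOpensRange_hom_ι j
  let qW : W ⟶ Spec (CommRingCat.of k) := π ≫ q
  haveI : IsProper qW := inferInstance
  have hjs : j' ≫ qW = s := by rw [show qW = π ≫ q from rfl, reassoc_of% hj', hjq]
  have hWle : topologicalKrullDim W ≤ 1 := by
    refine (CurveCompl.dim_le_one_of_dense_immersion s hdim.le qW j' hjs ?_).1
    exact (j'.opensRange.isOpen.dense ⟨j' x₀, x₀, rfl⟩)
  haveI : IsLocallyNoetherian W := LocallyOfFiniteType.isLocallyNoetherian qW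
  have hsm : Smooth qW := by
    have htop : qW.smoothLocus = ⊤ := by
      refine TopologicalSpace.Opens.ext (Set.eq_univ_of_forall fun w => ?_)
      refine GeomProp.mem_smoothLocus_of_regular_perfect qW ?_
      haveI := (hnorm w).1
      haveI := (hnorm w).2
      exact isRegularLocalRing_of_dim_le_one _ ((ringKrullDim_stalk_le w).trans hWle)
    exact Scheme.Hom.smoothLocus_eq_top_iff.1 htop
  obtain ⟨n, i, hi, hiq⟩ := CurveCompl.exists_closedImmersion qW hWle
  exact ⟨W, qW, j', inferInstance, hjs, inferInstance, hsm,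
    le_antisymm hWle (hdim ▸ j'.isOpenEmbedding.isInducing.topologicalKrullDim_le), n, i, hi, hiq⟩

end Groth.Agent.SmoothCompl
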